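import Groth.Agent.FittLib.BaseChange
import Groth.Prelude.Def_FlatCA

set_option autoImplicit false
universe u
open scoped TensorProduct

namespace Groth.Agent.FittSplitLib

theorem fitting_split {A C B : Type u} [CommRing A] [CommRing C] [CommRing B] [Algebra A C]
    [Algebra A B] [Algebra C B] [IsScalarTower A C B] [Module.Finite A C] [Module.Projective A C]
    (h : C) [IsLocalization.Away h B] [Algebra.Etale A B] (J : Ideal C) :
    ∃ J' : Ideal B,
      (FlatCA.fittingZero A (C ⧸ J)).map (algebraMap A B) = J.map (algebraMap C B) * J' ∧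
      (J.FG → (FlatCA.fittingZero A (C ⧸ J)).FG ∧ J'.FG) := by
  classical
  have hflat : Module.Flat A B := inferInstance
  haveI : Module.FinitePresentation A C := Module.finitePresentation_of_projective A C
  let JB := J.map (algebraMap C B)
  let ι : C →ₐ[A] B := IsScalarTower.toAlgHom A C B
  let q : C →ₐ[A] C ⧸ J := Ideal.Quotient.mkₐ A J
  let g : (C ⧸ J) →ₐ[A] B ⧸ JB := Ideal.Quotient.liftₐ J ((Ideal.Quotient.mkₐ A JB).comp ι)
    (fun c hc => Ideal.Quotient.eq_zero_iff_mem.mpr (Ideal.mem_map_of_mem _ hc))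
  let φ : B ⊗[A] C →ₐ[B] B ⊗[A] B := Algebra.TensorProduct.map (AlgHom.id B B) ι
  let Q : B ⊗[A] C →ₐ[B] B ⊗[A] (C ⧸ J) := Algebra.TensorProduct.map (AlgHom.id B B) q
  let π : B ⊗[A] (C ⧸ J) →ₐ[B] B ⧸ JB :=
    Algebra.TensorProduct.lift (Algebra.ofId B (B ⧸ JB)) g (fun x y => Commute.all _ _)
  let H : B ⊗[A] C := (1 : B) ⊗ₜ[A] h
  -- φ is onto up to powers of H
  have hnum : ∀ w : B ⊗[A] B, ∃ (N : ℕ) (u : B ⊗[A] C), φ u = φ H ^ N * w := by
    intro w
    induction w using TensorProduct.induction_on with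
    | zero => exact ⟨0, 0, by simp⟩
    | tmul b b' =>
      obtain ⟨⟨c, s, N, hN⟩, hc⟩ := IsLocalization.surj (Submonoid.powers h) b'
      refine ⟨N, b ⊗ₜ c, ?_⟩
      simp only [φ, H, Algebra.TensorProduct.map_tmul, AlgHom.coe_id, id_eq,
        Algebra.TensorProduct.tmul_pow, one_pow, Algebra.TensorProduct.tmul_mul_tmul, one_mul]
      congr 1
      rw [← map_pow]
      simp only [ι, IsScalarTower.coe_toAlgHom', hN]
      rw [← hc, mul_comm]
    | add w₁ w₂ h₁ h₂ =>
      obtain ⟨N₁, u₁, h₁⟩ := h₁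
      obtain ⟨N₂, u₂, h₂⟩ := h₂
      refine ⟨N₁ + N₂, H ^ N₂ * u₁ + H ^ N₁ * u₂, ?_⟩
      rw [map_add, map_mul, map_mul, map_pow, map_pow, h₁, h₂]
      ring
  have hker : ∀ w : B ⊗[A] C, φ w = 0 → ∃ M : ℕ, H ^ M * w = 0 := by
    intro w hw
    let K : Submodule A C := LinearMap.ker ι.toLinearMap
    have hex := Module.Flat.lTensor_exact B (LinearMap.exact_subtype_ker_map ι.toLinearMap)
    have hw' : ι.toLinearMap.lTensor B w = 0 := by
      rw [← hw]
      clear hw
      induction w using TensorProduct.induction_on with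
      | zero => simp
      | tmul b c => simp [φ]
      | add x y hx hy => simp [map_add, hx, hy]
    obtain ⟨v, rfl⟩ := (hex w).mp hw'
    clear hw hw' hex
    induction v using TensorProduct.induction_on with
    | zero => exact ⟨0, by simp⟩
    | tmul b c =>
      obtain ⟨⟨_, M, rfl⟩, hM⟩ := (IsLocalization.map_eq_zero_iff (Submonoid.powers h) B (c : C)).mp
        (show algebraMap C B (c : C) = 0 from c.2)
      refine ⟨M, ?_⟩
      simp only [LinearMap.lTensor_tmul, H, Algebra.TensorProduct.tmul_pow, one_pow,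
        Algebra.TensorProduct.tmul_mul_tmul, one_mul, Submodule.subtype_apply]
      rw [show h ^ M * (c : C) = 0 from hM, TensorProduct.tmul_zero]
    | add x y hx hy =>
      obtain ⟨M₁, h₁⟩ := hx
      obtain ⟨M₂, h₂⟩ := hy
      refine ⟨M₁ + M₂, ?_⟩
      rw [map_add, mul_add, pow_add, mul_assoc, mul_assoc, h₂, mul_zero, add_zero, ← mul_assoc,
        mul_comm (H ^ M₁), mul_assoc, h₁, mul_zero]
  -- the idempotent
  set e := Algebra.FormallyUnramified.elem A B with he
  obtain ⟨N, u, hu⟩ := hnum e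
  obtain ⟨T0, hT0⟩ := Module.Finite.fg_top (R := A) (M := C)
  have hz : ∀ c : C, ∃ M : ℕ, H ^ M * (((1 : B) ⊗ₜ[A] c - algebraMap C B c ⊗ₜ[A] (1 : C)) * u) = 0 := by
    intro c
    apply hker
    rw [map_mul, map_sub, hu]
    simp only [φ, Algebra.TensorProduct.map_tmul, AlgHom.coe_id, id_eq, map_one, ι,
      IsScalarTower.coe_toAlgHom']
    rw [sub_mul, mul_left_comm, Algebra.FormallyUnramified.one_tmul_mul_elem]
    ring
  choose Mf hMf using hz
  let M := T0.sup Mf
  have hall : ∀ c : C, H ^ M * (((1 : B) ⊗ₜ[A] c - algebraMap C B c ⊗ₜ[A] (1 : C)) * u) = 0 := by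
    intro c
    have hc : c ∈ Submodule.span A (T0 : Set C) := by rw [hT0]; trivial
    induction hc using Submodule.span_induction with
    | mem t ht =>
      obtain ⟨d, hd⟩ := Nat.exists_eq_add_of_le (Finset.le_sup ht : Mf t ≤ M)
      rw [show M = Mf t + d from hd, add_comm, pow_add, mul_assoc, hMf t, mul_zero]
    | zero => simp
    | add x y _ _ hx hy =>
      rw [TensorProduct.tmul_add, map_add, TensorProduct.add_tmul, add_sub_add_comm, add_mul,
        mul_add, hx, hy, add_zero]
    | smul a x _ hx =>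
      rw [TensorProduct.tmul_smul, Algebra.smul_def a x, map_mul, ← IsScalarTower.algebraMap_apply,
        ← Algebra.smul_def, ← TensorProduct.smul_tmul', ← smul_sub, smul_mul_assoc, mul_smul_comm,
        hx, smul_zero]
  have hunit : IsUnit (algebraMap C B h) := IsLocalization.Away.algebraMap_isUnit h
  obtain ⟨hi, hhi⟩ := hunit.exists_left_inv
  let v : B ⊗[A] (C ⧸ J) := Q (H ^ M * u) * ((hi ^ (N + M)) ⊗ₜ[A] (1 : C ⧸ J))
  have hv : ∀ c : C, ((1 : B) ⊗ₜ[A] q c) * v = (algebraMap C B c ⊗ₜ[A] (1 : C ⧸ J)) * v := by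
    intro c
    rw [← sub_eq_zero, ← sub_mul]
    have h1 := congrArg Q (hall c)
    rw [map_mul, map_mul, map_sub, map_zero] at h1
    simp only [Q, Algebra.TensorProduct.map_tmul, AlgHom.coe_id, id_eq, map_one] at h1
    simp only [v, map_mul]
    linear_combination ((hi ^ (N + M)) ⊗ₜ[A] (1 : C ⧸ J)) * h1
  have hπQ : ∀ w, π (Q w) = Ideal.Quotient.mk JB (Algebra.TensorProduct.lmul' A (φ w)) := by
    intro w
    induction w using TensorProduct.induction_on with
    | zero => simp
    | tmul b c => simp [π, Q, φ, g, q, ι, Algebra.ofId_apply]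
    | add x y hx hy => simp [map_add, hx, hy]
  have hπv : π v = 1 := by
    simp only [v, map_mul π, hπQ, map_mul φ, map_pow φ, hu, map_mul (Algebra.TensorProduct.lmul' A),
      map_pow (Algebra.TensorProduct.lmul' A), he, Algebra.FormallyUnramified.lmul_elem]
    simp only [φ, H, π, Algebra.TensorProduct.map_tmul, AlgHom.coe_id, id_eq,
      Algebra.TensorProduct.lift_tmul, map_one, mul_one, Algebra.TensorProduct.lmul'_apply_tmul,
      Algebra.ofId_apply, ι, IsScalarTower.coe_toAlgHom', one_mul, Ideal.Quotient.algebraMap_eq]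
    rw [← map_mul, ← pow_add, add_comm M N, ← mul_pow, mul_comm, hhi, one_pow, map_one]
  have hJv : ∀ b ∈ JB, b • v = 0 := by
    intro b hb
    change b ∈ Submodule.span B (algebraMap C B '' J) at hb
    induction hb using Submodule.span_induction with
    | mem x hx =>
      obtain ⟨c, hc, rfl⟩ := hx
      have hbv : ∀ b : B, b • v = (b ⊗ₜ[A] (1 : C ⧸ J)) * v := fun b => by
        rw [show (b ⊗ₜ[A] (1 : C ⧸ J)) = b • (1 : B ⊗[A] (C ⧸ J)) by
          simp [Algebra.TensorProduct.one_def, TensorProduct.smul_tmul'], smul_mul_assoc, one_mul]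
      rw [hbv, ← hv, show q c = 0 from Ideal.Quotient.eq_zero_iff_mem.mpr hc,
        TensorProduct.tmul_zero, zero_mul]
    | zero => simp
    | add x y _ _ hx hy => rw [add_smul, hx, hy, add_zero]
    | smul a x _ hx => rw [smul_eq_mul, mul_smul, hx, smul_zero]
  let s : (B ⧸ JB) →ₗ[B] B ⊗[A] (C ⧸ J) :=
    Submodule.liftQ JB (LinearMap.toSpanSingleton B (B ⊗[A] (C ⧸ J)) v) (fun b hb => hJv b hb)
  have hs : ∀ x, π (s x) = x := by
    intro x
    obtain ⟨b, rfl⟩ := Ideal.Quotient.mk_surjective x
    change π (b • v) = _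
    rw [map_smul, hπv, Algebra.smul_def, mul_one]
    rfl
  let K := LinearMap.ker π.toLinearMap
  let p : B ⊗[A] (C ⧸ J) →ₗ[B] K := LinearMap.codRestrict K (LinearMap.id - s.comp π.toLinearMap)
    (fun t => by simp [K, hs])
  have hp : ∀ k : K, p k = k := fun k => Subtype.ext (by
    simp [p, show π (k : B ⊗[A] (C ⧸ J)) = 0 from k.2])
  have hpsurj : Function.Surjective p := fun k => ⟨k, hp k⟩
  let e' : (B ⊗[A] (C ⧸ J)) ≃ₗ[B] (B ⧸ JB) × K :=
    { π.toLinearMap.prod p with
      invFun := fun x => s x.1 + x.2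
      left_inv := fun t => by simp [p]
      right_inv := fun x => by
        obtain ⟨x, k⟩ := x
        have hk : π (k : B ⊗[A] (C ⧸ J)) = 0 := k.2
        refine Prod.ext ?_ (Subtype.ext ?_)
        · simp [hs, hk]
        · simp [p, hs, hk] }
  haveI : Module.Finite A (C ⧸ J) := Module.Finite.of_surjective q.toLinearMap Ideal.Quotient.mk_surjective
  haveI : Module.Finite B K := Module.Finite.of_surjective p hpsurj
  have hfit : ∀ (R : Type u) [CommRing R] (W : Type u) [AddCommGroup W] [Module R W],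
      FlatCA.fittingZero R W = Fitt.ideal R W 0 := by
    intro R _ W _ _
    unfold FlatCA.fittingZero Fitt.ideal
    simp
  refine ⟨Fitt.ideal B K 0, ?_, fun hJ => ?_⟩
  · rw [hfit, ← FittLib.ideal_tensor, FittLib.ideal_congr (M := B ⊗[A] (C ⧸ J)) (M' := (B ⧸ JB) × K) e', FittLib.ideal_prod]
    simp only [Finset.range_one, zero_add, Finset.sum_singleton, Nat.sub_zero]
    rw [FittLib.ideal_quotient]
  · have hJA : (J.restrictScalars A).FG := by
      haveI : Module.Finite C J := Module.Finite.iff_fg.mpr hJ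
      haveI : Module.Finite A J := Module.Finite.trans C J
      exact Module.Finite.iff_fg.mp (inferInstanceAs (Module.Finite A J))
    haveI : Module.FinitePresentation A (C ⧸ J) :=
      Module.finitePresentation_of_surjective q.toLinearMap Ideal.Quotient.mk_surjective (by
        rw [show LinearMap.ker q.toLinearMap = J.restrictScalars A by
          ext c; simp [q, Ideal.Quotient.eq_zero_iff_mem]]
        exact hJA)
    refine ⟨by rw [hfit]; exact FittLib.ideal_fg 0, ?_⟩
    have hkp : (LinearMap.ker p).FG := by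
      have : LinearMap.ker p = LinearMap.range s := by
        ext t
        constructor
        · intro ht
          have := congrArg Subtype.val (LinearMap.mem_ker.mp ht)
          simp [p, sub_eq_zero] at this
          exact ⟨π t, this.symm⟩
        · rintro ⟨x, rfl⟩
          exact LinearMap.mem_ker.mpr (Subtype.ext (by simp [p, hs]))
      rw [this, LinearMap.range_eq_map]
      exact (Module.Finite.fg_top).map s
    haveI := Module.finitePresentation_of_surjective (R := B) (M := B ⊗[A] (C ⧸ J)) (N := K) p hpsurj hkp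
    exact FittLib.ideal_fg (R := B) (M := K) 0

end Groth.Agent.FittSplitLib
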